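import Groth.Agent.Lib.DimF18.Basic
import Groth.Agent.Lib.VarDim.Fibre
import Groth.Agent.Lib.EGA43Top.DimLift
import Mathlib.AlgebraicGeometry.Morphisms.UniversallyOpen

/-!
Dimensions of the fibres of a flat morphism between equidimensional schemes over a field.
-/

universe u

open CategoryTheory AlgebraicGeometry Order

namespace Groth.Agent.FlatEquiH1

open Groth.Agent.VarDim

variable {k : Type u} [Field k] {X Y : Scheme.{u}}

/-- In an equidimensional scheme of finite type, dimension of point plus codimension is constant. -/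
theorem coheight_add_sdim (p : X ⟶ Spec (CommRingCat.of k)) [LocallyOfFiniteType p] (D : ℕ)
    (hD : ∀ g : X, (∀ x, x ⤳ g → x = g) → sdim p g = D) (x : X) :
    ∃ a : ℕ, coheight x = (a : ℕ∞) ∧ a + sdim p x = D := by
  have hle : ∀ z, sdim p z ≤ D := fun z => by
    obtain ⟨g, hg, hmax⟩ := exists_maximal_specializes p z
    rw [← hD g hmax]
    by_cases he : g = z
    · rw [he]
    · exact (sdim_lt_of_specializes p hg he).le
  have hfin : coheight x ≠ ⊤ := fun htop => by
    obtain ⟨l, hl, hlen⟩ := exists_series_of_le_coheight x (n := D + 1) (htop ▸ le_top)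
    have key : ∀ i : Fin (l.length + 1), (i : ℕ) ≤ sdim p (l i) := by
      intro i
      induction i using Fin.induction with
      | zero => simp
      | succ j ih =>
        have hlt : l j.castSucc < l j.succ := l.step j
        have := sdim_lt_of_specializes p (x := l j.succ) (y := l j.castSucc)
          (show l j.succ ⤳ l j.castSucc from hlt.le) hlt.ne'
        simp only [Fin.val_castSucc, Fin.val_succ] at ih ⊢
        omega
    have h1 := key (Fin.last _)
    have h2 := hle (l (Fin.last _))
    simp [hlen] at h1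
    omega
  obtain ⟨a, ha⟩ := ENat.ne_top_iff_exists.1 hfin
  refine ⟨a, ha.symm, le_antisymm ?_ ?_⟩
  · obtain ⟨z, -, hz⟩ := DimF18.exists_generization_sdim p ha.symm
    have := hle z
    omega
  · obtain ⟨g, hg, hmax⟩ := exists_maximal_specializes p x
    have h := DimF18.sdim_le_add_coheight p hg
    rw [hD g hmax, ← ha] at h
    have : D ≤ sdim p x + a := by exact_mod_cast h
    omega

/-- The irreducible components have dimension `D` iff the maximal points have. -/
theorem components_iff (p : X ⟶ Spec (CommRingCat.of k)) [LocallyOfFiniteType p] (D : ℕ) :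
    (∀ Z ∈ irreducibleComponents (X : Type u), topologicalKrullDim Z = (D : WithBot ℕ∞)) ↔
      ∀ g : X, (∀ x, x ⤳ g → x = g) → sdim p g = D := by
  constructor
  · intro h g hg
    have := h _ ((maximal_iff_mem_irreducibleComponents g).1 hg)
    rw [dim_closure_singleton p] at this
    exact_mod_cast this
  · intro h Z hZ
    obtain ⟨g, rfl, hg⟩ := exists_generic_of_mem_irreducibleComponents hZ
    rw [dim_closure_singleton p, h g hg]

variable (q : Y ⟶ Spec (CommRingCat.of k)) [LocallyOfFiniteType q] (f : X ⟶ Y) [LocallyOfFiniteType f] [Flat f]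

include q in
theorem sdim_fibre_max {dX dY : ℕ} (hX : ∀ g : X, (∀ x, x ⤳ g → x = g) → sdim (f ≫ q) g = dX)
    (hY : ∀ g : Y, (∀ x, x ⤳ g → x = g) → sdim q g = dY)
    (y : Y) (z : f.fiber y) (hz : ∀ x, x ⤳ z → x = z) :
    sdim (f.fiberToSpecResidueField y) z + dY = dX := by
  haveI : IsLocallyNoetherian Y := LocallyOfFiniteType.isLocallyNoetherian q
  haveI : IsLocallyNoetherian X := LocallyOfFiniteType.isLocallyNoetherian f
  have hfz : f (f.fiberι y z) = y := (Scheme.Hom.range_fiberι f y).le ⟨z, rfl⟩
  obtain ⟨a, ha, hax⟩ := coheight_add_sdim (f ≫ q) dX hX (f.fiberι y z)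
  obtain ⟨b, hb, hby⟩ := coheight_add_sdim q dY hY y
  have hfib := sdim_fiber q f y z
  have hxmax : ∀ x', x' ⤳ f.fiberι y z → f x' = y → x' = f.fiberι y z := fun x' hx' hfx' => by
    obtain ⟨w, rfl⟩ : x' ∈ Set.range (f.fiberι y) := (Scheme.Hom.range_fiberι f y).ge hfx'
    rw [hz w ((f.fiberι y).isEmbedding.isInducing.specializes_iff.1 hx')]
  have he := EGA43Top.ringKrullDim_stalk_eq_of_liftsAt f (f.fiberι y z)
    (fun w _ _ _ y' hy' => Flat.generalizingMap f hy')
  have h0 : ringKrullDim ((f.fiber (f (f.fiberι y z))).presheaf.stalk (f.asFiber (f.fiberι y z))) = 0 := by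
    rw [ringKrullDim_stalk_eq_coheight, Order.coheight_eq_zero.2 fun w hw => ?_]
    · rfl
    · have h1 := Specializes.map (show w ⤳ f.asFiber (f.fiberι y z) from hw) (f.fiberι _).continuous
      rw [f.fiberι_asFiber] at h1
      refine le_of_eq ((f.fiberι _).isEmbedding.injective ?_)
      rw [f.fiberι_asFiber]
      exact hxmax _ h1 (((Scheme.Hom.range_fiberι f _).le ⟨w, rfl⟩).trans hfz)
  rw [h0, add_zero, ringKrullDim_stalk_eq_coheight, ringKrullDim_stalk_eq_coheight, ha, hfz, hb] at he
  have : a = b := by exact_mod_cast he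
  omega

theorem maximal_map (g : X) (hg : ∀ x, x ⤳ g → x = g) :
    (∀ y, y ⤳ f g → y = f g) ∧ ∀ z, f.fiberι (f g) z = g → ∀ w, w ⤳ z → w = z := by
  refine ⟨fun y hy => ?_, fun z hz w hw => (f.fiberι _).isEmbedding.injective ?_⟩
  · obtain ⟨x, hx, rfl⟩ := Flat.generalizingMap f hy
    rw [hg x hx]
  · rw [hz]
    exact hg _ ((hw.map (f.fiberι _).continuous).trans (specializes_of_eq hz))



/-- The components of a fibre have dimension `n` iff its maximal points have. -/
theorem components_iff_fiber (y : Y) (n : ℕ) :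
    (∀ Z ∈ irreducibleComponents (f.fiber y : Type u), topologicalKrullDim Z = (n : WithBot ℕ∞)) ↔
      ∀ g : f.fiber y, (∀ x, x ⤳ g → x = g) → sdim (f.fiberToSpecResidueField y) g = n := by
  let h : f.fiber y ⟶ Spec (CommRingCat.of ↑(Y.residueField y)) := f.fiberToSpecResidueField y
  haveI : LocallyOfFiniteType h := MorphismProperty.pullback_snd _ _ inferInstance
  exact components_iff h n

/-- The dimension of the closure of a point of a fibre. -/
theorem dim_closure_fiber (y : Y) (z : f.fiber y) :
    topologicalKrullDim (closure ({z} : Set (f.fiber y))) =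
      (sdim (f.fiberToSpecResidueField y) z : WithBot ℕ∞) := by
  let h : f.fiber y ⟶ Spec (CommRingCat.of ↑(Y.residueField y)) := f.fiberToSpecResidueField y
  haveI : LocallyOfFiniteType h := MorphismProperty.pullback_snd _ _ inferInstance
  exact dim_closure_singleton h z

end Groth.Agent.FlatEquiH1
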